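import Mathlib
import Cfsg.Agent.H29.Cover
import Cfsg.Agent.H29.Ext

/-!
# Systems of involutions with the diagram Y333
-/

set_option autoImplicit false

namespace H29.CV

/-- The nodes `a, b1, c1, d1, b2, c2, d2, b3, c3, d3`. -/
def N3 : List ℕ := [0, 1, 2, 3, 5, 6, 7, 8, 9, 10]
def Ed : List (ℕ × ℕ) := [(0, 1), (1, 2), (2, 3), (0, 5), (5, 6), (6, 7), (0, 8), (8, 9), (9, 10)]
def ord (a b : ℕ) : ℕ := if (a, b) ∈ Ed ∨ (b, a) ∈ Ed then 3 else 2

/-- The Coxeter relations and the spider relation. -/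
structure C3 {G : Type*} [Group G] (e : ℕ → G) : Prop where
  sq : ∀ c, e c * e c = 1
  cox : ∀ a ∈ N3, ∀ b ∈ N3, (e a * e b) ^ ord a b = 1
  sp : ev e [0, 1, 2, 0, 5, 6, 0, 8, 9] ^ 10 = 1

end H29.CV
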