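import Mathlib
import Cfsg.Agent.H29.YB.E2
import Cfsg.Agent.H29.YB.B1
import Cfsg.Agent.H29.TB0
import Cfsg.Agent.H29.CV.D

/-!
# Central extensions generated by a system with the diagram Y333: three subgroups of Fischer type
-/

set_option autoImplicit false
set_option maxRecDepth 100000
set_option linter.all false

namespace H29.YB.CV
open H19 H29.BE H29.BP H29.BP.Dat H29.BM H29.CV

noncomputable def cox3 : List (List ℕ) :=
  N3.flatMap fun a => N3.map fun b => powW (ord a b) [a, b]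
noncomputable def cm3 (a b : ℕ) : Bool := and2 (cmN 10 a b) (inM 2031 [a, b])

section
variable {G : Type} [Group G] {b : ℕ → G}

theorem _root_.H29.CV.C3.rel (h : C3 b) : ∀ r ∈ cox3, ev b r = 1 := fun r hr => by
  obtain ⟨x, hx, hr⟩ := List.mem_flatMap.1 hr
  obtain ⟨y, hy, rfl⟩ := List.mem_map.1 hr
  rw [ev_powW, ev_cons, ev_cons, ev_nil, mul_one]; exact h.cox x hx y hy

theorem _root_.H29.CV.C3.cm (h : C3 b) (x y : ℕ) (c : cm3 x y = true) : b x * b y = b y * b x := by
  have h1 := inM_true (and2_true.1 c).2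
  have hx := bit_lt (n := 11) (by decide) (h1 x (by simp))
  have hy := bit_lt (n := 11) (by decide) (h1 y (by simp))
  have : memLL [x, y, x, y] cox3 = true := by
    clear h1; revert c; revert y; revert x; decide +kernel
  exact comm_of_rel (iv_of_sq h.sq) (h.rel _ (memLL_true this))

theorem _root_.H29.CV.C3.pow (h : C3 b) {n : ℕ} {x x' : List ℕ} (y : List ℕ) (a : ev b x ^ n = 1)
    (c : eqR cm3 x' (y ++ x ++ y.reverse) = true) : ev b x' ^ n = 1 := by
  rw [eqR_sound h.sq h.cm c, ev_append, ev_append, ev_rev h.sq, conj_pow, a]; simp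

theorem _root_.H29.CV.C3.pow' (h : C3 b) {n : ℕ} {x x' : List ℕ} (y : List ℕ) (a : ev b x ^ n = 1)
    (c : eqR cm3 x' (y ++ x.reverse ++ y.reverse) = true) : ev b x' ^ n = 1 :=
  h.pow y (by rw [ev_rev h.sq, inv_pow, a, inv_one]) c

theorem _root_.H29.CV.C3.sub (h : C3 b) {m : ℕ → ℕ} {R X : List (List ℕ)} (hX : ∀ r ∈ X, ev b r = 1)
    (c : (allL R fun w => memLL (w.map m) (cox3 ++ X)) = true) :
    ∀ r ∈ R, ev (fun c => b (m c)) r = 1 := fun r hr => by
  rw [ev_map]; exact rels_append h.rel hX _ (memLL_true (allL_true.1 c r hr))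

theorem _root_.H29.CV.C3.map (h : C3 b) {m : ℕ → ℕ} (c : ∀ x ∈ N3, ∀ y ∈ N3, m x ∈ N3 ∧ ord (m x) (m y) = ord x y)
    (s : ev b ([0, 1, 2, 0, 5, 6, 0, 8, 9].map m) ^ 10 = 1) : C3 fun c => b (m c) :=
  ⟨fun _ => h.sq _, fun x hx y hy => (c x hx y hy).2 ▸ h.cox _ (c x hx y hy).1 _ (c y hy x hx).1,
    by rwa [ev_map]⟩

theorem _root_.H29.CV.C3.tau (h : C3 b) : C3 fun c => b (ta c) :=
  h.map (by decide +kernel) (h.pow' [9, 6, 0, 1, 0] h.sp (by decide +kernel))

theorem _root_.H29.CV.C3.trH (h : C3 b) (f : ev b [0, 1, 2, 5, 6, 7, 8] ^ 9 = 1) {w : List ℕ}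
    (hw : ∀ c ∈ w, c ∈ HL) (e : ev sm w = 1) : ev b w = 1 := by
  have t : Tr Fi23.P.e (fun c => b (m23 c)) FiA.cols := Fi23.ub.tr (by decide) Fi23.hiv0
    (rels_sub Fi23.hR (by decide +kernel)) Fi23.cardH.ge (iv_of_sq fun _ => h.sq _)
    (h.sub (X := [powW 10 [0, 5, 6, 0, 1, 2, 0, 8, 9], powW 9 [7, 6, 5, 0, 1, 2, 8]]) (by
      simp only [List.forall_mem_cons, ev_powW]
      exact ⟨h.pow' [9, 8, 9, 6, 2] h.sp (by decide +kernel),
        h.pow [7, 6, 7, 5, 6, 7] f (by decide +kernel), by simp⟩) (by decide +kernel))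
  have k : ∀ c ∈ HL, mi c ∈ FiA.cols ∧ m23 (mi c) = c := by decide +kernel
  have a : ∀ {K : Type} [Group K] (y : ℕ → K), ev (fun c => y (m23 c)) (w.map mi) = ev y w :=
    fun y => by rw [← ev_map]; exact ev_congr fun c hc => by rw [(k c (hw c hc)).2]
  have m : ∀ c ∈ w.map mi, c ∈ FiA.cols := fun c hc => by
    obtain ⟨x, hx, rfl⟩ := List.mem_map.1 hc; exact (k x (hw x hx)).1
  rw [← a]
  refine t _ m (φ2_inj.2 ?_)
  rw [map_one, map_ev, ← e, ← a sm]
  exact ev_congr fun c hc => by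
    rw [MonoidHom.comp_apply, φ2_e (by have := m c hc; clear hc; revert c; decide), π_σ]

theorem om_ev {w : List ℕ} (h : inM 32767 w = true) : ev sm (w.map ta) = om * ev sm w * om⁻¹ :=
  (conj_ev (e := sm) (σ := ta) fun c hc => om_sm (bit_lt (by decide) (inM_true h c hc))).symm

theorem _root_.H29.CV.C3.phi (h : C3 b) (f : ev b [0, 1, 2, 5, 6, 7, 8] ^ 9 = 1) :
    ev b [7, 6, 5, 0, 8, 9, 1] ^ 9 = 1 := by
  rw [← ev_powW]
  exact h.trH f (by decide +kernel)
    (eq_of_chk (w := []) (M := tI) (by decide +kernel) (by decide +kernel) (by decide +kernel))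

end

/-! ### Identities in the model -/

theorem smJ {w : List ℕ} {a b : ℕ} (c : cJ w a b = true) :
    ev sm w * sm a * (ev sm w)⁻¹ = sm b := by
  simpa only [map_mul, map_inv, π_ev, π_σ] using congrArg π (cJ_sound c)

theorem smJ' {w : List ℕ} {a b : ℕ} (h : inM 32767 (a :: b :: w) = true)
    (c : cJ (w.map ta) (ta a) (ta b) = true) : ev sm w * sm a * (ev sm w)⁻¹ = sm b := by
  have k := fun c hc => bit_lt (n := 15) (by decide) (inM_true h c hc)
  have := smJ c
  rw [← conj_ev (e := sm) (w := w) (σ := ta) fun c hc => om_sm (k c (by simp [hc])), ← om_sm (k a (by simp)),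
    ← om_sm (k b (by simp))] at this
  calc _ = om⁻¹ * (om * ev sm w * om⁻¹ * (om * sm a * om⁻¹) * (om * ev sm w * om⁻¹)⁻¹) * om := by group
    _ = _ := by rw [this]; group

theorem sm_one {w : List ℕ} (h : inM 15359 w = true)
    (c : allL Fi23T.cols (fun a => cJ w (m23 a) (m23 a)) = true) : ev sm w = 1 := by
  have e1 := φ2_w h
  have : ev fe w ∈ Subgroup.center Fi23.P.G := Subgroup.mem_center_iff.2 fun g =>
    comm_gen (L := Fi23T.cols) (fun a ha => (Function.Injective.of_comp (f := π) (g := φ2) φ2_inj.2) (by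
      rw [map_mul, map_mul, e1, φ2_e (by clear c; revert a; decide), eq_comm, ← mul_inv_eq_iff_eq_mul]
      exact cJ_sound (allL_true.1 c a ha))) g (Fi23.top ▸ Subgroup.mem_top g)
  have hs := Fi23.simple
  rw [center_eq_bot_of_simple (by rw [Fi23.card.1]; norm_num), Subgroup.mem_bot] at this
  rw [← π_ev, ← e1, this, map_one, map_one]

noncomputable def xx : GG := π X
noncomputable def xb : ℕ → ℕ := ivOf [0, 1, 2, 11, 4, 5, 6, 14, 8, 9, 13, 3, 12, 10, 7]

theorem xx_sm {c : ℕ} (h : (15339 : ℕ).testBit c = true) : xx * sm c * xx⁻¹ = sm (xb c) := by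
  have k : ∀ c, (16235 : ℕ).testBit c = true → xx * sm c * xx⁻¹ = sm (xa c) := fun c h => by
    simpa only [map_mul, map_inv, π_σ, xx] using congrArg π (X_σ h)
  have h1 := bit_lt (n := 14) (by decide) h
  by_cases e : c = 7
  · let g0 := [6, 5, 0, 8, 9, 1, 0, 8, 5, 6, 0, 5, 1, 0, 8, 9]
    have a : xx * ev sm g0 * xx⁻¹ = ev sm g0 := (conj_ev fun c hc => k c (by revert c; decide)).trans
      (congrArg _ (by decide +kernel))
    have b := k 13 rfl
    rw [e, ← smJ (w := g0) (a := 13) (b := 7) (by decide +kernel), show xb 7 = 14 from rfl,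
      ← smJ' (w := g0) (a := 10) (b := 14) (by decide +kernel) (by decide +kernel),
      ← show _ = sm 10 from b]
    calc _ = xx * ev sm g0 * xx⁻¹ * (xx * sm 13 * xx⁻¹) * (xx * ev sm g0 * xx⁻¹)⁻¹ := by group
      _ = _ := by rw [a]
  · rw [k c (by revert h e; revert c; decide)]
    exact congrArg _ (by revert h e; revert c; decide +kernel)

theorem half {K K' : Subgroup GG} (hK : K ≤ K') (hb : K ≤ BB) (ho : om ∈ K')
    (d : ∀ g ∈ K', g ∈ K ∨ g * om ∈ K) : Nat.card K' = Nat.card K * 2 := by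
  have : (K.subgroupOf K').index = 2 := Subgroup.index_eq_two_iff.2 ⟨⟨om, ho⟩, fun g => by
    have n : ¬ (g.1 * om ∈ K ∧ g.1 ∈ K) := fun h => om_not (by
      simpa using BB.mul_mem (BB.inv_mem (hb h.2)) (hb h.1))
    rcases d g.1 g.2 with a | a
    exacts [Or.inr ⟨a, fun b => n ⟨b, a⟩⟩, Or.inl ⟨a, fun b => n ⟨a, b⟩⟩]⟩
  rw [← (K.subgroupOf K').card_mul_index, this,
    Nat.card_congr (Subgroup.subgroupOfEquivOfLe hK).toEquiv]

theorem card_E0 : Nat.card (gen sm EL) = 2 ^ 20 * 36787322880 := by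
  have := half (K := gen sm EL) (K' := gen sm KL) (gen_mono (by decide))
    (gen_le.2 fun c hc => sm_BB (by revert c; decide)) (mem_gen (e := sm) (c := 15) (by decide))
    (dichotomy om_sq (fun k hk => by
      have := conj_gen (t := om) (H := gen sm EL) (fun c hc => by
        rw [om_sm (by revert c; decide)]; exact mem_gen (by revert c; decide +kernel)) k hk
      rwa [show om⁻¹ = om from sm_inv 15] at this) fun c hc => by
      by_cases e : c = 15
      · exact Or.inr (by rw [e, sm15, om_sq]; exact Subgroup.one_mem _)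
      · exact Or.inl (mem_gen (by revert e; revert c; decide)))
  rw [gen_EE, card_EE] at this
  omega

theorem L3_le : gen sm L3 ≤ LL := (gen_mono (by decide)).trans gen_L_le
theorem card_L3 : Nat.card (gen sm L3) = 3968055 * (2 ^ 20 * 36787322880) := by
  have := half L3_le (gen_le.2 fun c hc => sm_BB (by revert c; decide))
    (gen_L_le (mem_gen (e := sm) (c := 15) (by decide))) L3_dich
  rw [card_LL] at this
  omega

/-! ### The situation -/

def Inj {G : Type} [Group G] (ρ : G →* GG) (H : Subgroup G) : Prop := ∀ x ∈ H, ρ x = 1 → x = 1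

theorem Inj.eq {G : Type} [Group G] {ρ : G →* GG} {H : Subgroup G} (h : Inj ρ H) {x y : G}
    (hx : x ∈ H) (hy : y ∈ H) (e : ρ x = ρ y) : x = y :=
  mul_inv_eq_one.1 (h _ (H.mul_mem hx (H.inv_mem hy)) (by simp [e]))

structure Sit {G : Type} [Group G] (ρ : G →* GG) (t : G) (e : ℕ → G) (H H' A : Subgroup G) :
    Prop where
  sq : ∀ c, e c * e c = 1
  map : ∀ c, (32751 : ℕ).testBit c = true → ρ (e c) = sm c
  mH : ∀ c, (15343 : ℕ).testBit c = true → e c ∈ H
  mH' : ∀ c, (24431 : ℕ).testBit c = true → e c ∈ H'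
  mA : ∀ c, (26599 : ℕ).testBit c = true → e c ∈ A
  mL : ∀ c, e c ∈ gen e L3
  iH : Inj ρ H
  iH' : Inj ρ H'
  iA : Inj ρ A
  ker : ∀ g ∈ gen e L3, ρ g = 1 → g = 1 ∨ g = t
  cen : ∀ g ∈ gen e L3, g * t = t * g
  tt : t * t = 1

noncomputable def dW : List (List ℕ) := [[0], [1], [2], [3], [], [5], [6], [7], [8], [9], [10]] ++ dw
def HL' : List ℕ := [10, 9, 8, 0, 1, 2, 3, 5, 6]

theorem sm_dW {c : ℕ} (h : (32751 : ℕ).testBit c = true) : wE sm dW c = sm c := by
  have h1 := bit_lt (n := 15) (by decide) h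
  interval_cases c <;> first | exact mul_one _ | exact absurd h (by decide) | skip
  · exact rel_f1
  · rw [sm12, ← ev_rev sm_sq, mul_assoc, ← ev_cons, ← ev_append]; rfl
  · exact sm13.symm
  · exact sm14.symm

theorem sit {G : Type} [Group G] (ρ : G →* GG) {t : G} {b : ℕ → G} (h : C3 b)
    (f2 : ev b [0, 1, 2, 5, 6, 7, 8] ^ 9 = 1) (f3 : ev b [0, 1, 2, 5, 8, 9, 10] ^ 9 = 1)
    (hρ : ∀ c ∈ L3, ρ (b c) = sm c) (ht : ∀ c ∈ L3, b c * t = t * b c) (h2 : t * t = 1)
    (hk : ∀ g ∈ gen b L3, ρ g = 1 → g = 1 ∨ g = t) :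
    Sit ρ t (wE b dW) (gen b HL) (gen b HL') (gen b AL) ∧ ∀ c ∈ L3, wE b dW c = b c := by
  have hw : ∀ {w : List ℕ}, (∀ c ∈ w, c ∈ L3) → ρ (ev b w) = ev sm w := fun h => by
    rw [map_ev]; exact ev_congr fun c hc => hρ c (h c hc)
  have e0 : ∀ c ∈ L3, wE b dW c = b c := by
    simp only [L3, List.forall_mem_cons]
    exact ⟨mul_one _, mul_one _, mul_one _, mul_one _, mul_one _, mul_one _, mul_one _, mul_one _,
      mul_one _, mul_one _, by simp⟩
  have g0 := gen_congr e0
  have f3' : ev (fun c => b (ta c)) [0, 1, 2, 5, 6, 7, 8] ^ 9 = 1 := by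
    rw [ev_map]; exact h.pow [] f3 (by decide +kernel)
  have iH : Inj ρ (gen b HL) := fun x hx e => by
    obtain ⟨w, a, rfl⟩ := exists_word (iv_of_sq h.sq) (fun _ h => h) hx
    exact h.trH f2 a ((hw fun c hc => by have := a c hc; clear hc; revert c; decide).symm.trans e)
  have iH' : Inj ρ (gen b HL') := fun x hx e => by
    obtain ⟨w, a, rfl⟩ := exists_word (iv_of_sq h.sq) (fun _ h => h) hx
    have k : ∀ c ∈ HL', c ∈ L3 ∧ ta c ∈ HL ∧ ta (ta c) = c ∧ tb 32767 c = true := by decide +kernel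
    rw [hw fun c hc => (k c (a c hc)).1] at e
    have := h.tau.trH f3' (w := w.map ta) (fun c hc => by
      obtain ⟨x, hx, rfl⟩ := List.mem_map.1 hc; exact (k x (a x hx)).2.1) (by
      rw [om_ev (allL_true.2 fun c hc => (k c (a c hc)).2.2.2), e]; simp)
    rwa [← ev_map, ev_congr (e' := b) fun c hc => congrArg b (k c (a c hc)).2.2.1] at this
  have iA : Inj ρ (gen b AL) := by
    obtain ⟨φ, hφ⟩ : ∃ φ : Fi22.P.G →* G, ∀ c < 9, φ (Fi22.P.e c) = b (m22 c) :=
      PData.exists_hom Fi22.coh Fi22.hg (σ := fun c => b (m22 c)) (iv_of_sq fun _ => h.sq _)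
        (h.sub (X := [powW 10 [0, 5, 6, 0, 8, 9, 0, 1, 2], powW 9 [7, 6, 5, 0, 8, 9, 1],
          powW 9 [6, 5, 0, 8, 9, 10, 1]]) (by
          simp only [List.forall_mem_cons, ev_powW]
          have := h.tau.phi f3'
          rw [ev_map] at this
          exact ⟨h.pow [2, 1, 0] h.sp (by decide +kernel), h.phi f2,
            h.pow' [1] this (by decide +kernel), by simp⟩) (by decide +kernel))
    have r : φ.range = gen b AL := by
      rw [MonoidHom.range_eq_map, ← Fi22.top, map_gen, gen_congr (e' := fun c => b (m22 c))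
        fun c hc => hφ c (by revert c; decide), gen_relabel]
      rfl
    have hs := Fi22.simple
    have : Function.Injective (ρ.comp φ) := by
      refine (MonoidHom.ker_eq_bot_iff _).1 ((ρ.comp φ).normal_ker.eq_bot_or_eq_top.resolve_right
        fun e => sm0_ne ?_)
      have : Fi22.P.e 3 ∈ (ρ.comp φ).ker := e ▸ Subgroup.mem_top _
      rwa [MonoidHom.mem_ker, MonoidHom.comp_apply, hφ 3 (by omega), show m22 3 = 0 from rfl,
        hρ 0 (by decide)] at this
    rw [← r]
    rintro _ ⟨x, rfl⟩ e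
    rw [this (a₁ := x) (a₂ := 1) (e.trans (map_one _).symm), map_one]
  have dl : ∀ c, ∀ y ∈ nth [] dW c, y ∈ L3 :=
    nth_forall (p := fun w : List ℕ => ∀ y ∈ w, y ∈ L3) (by simp) (by decide +kernel)
  have mp : ∀ c, (32751 : ℕ).testBit c = true → ρ (wE b dW c) = sm c := fun c hc =>
    (hw (dl c)).trans (sm_dW hc)
  have m : ∀ (L : List ℕ) (n : ℕ), (∀ c < 15, n.testBit c = true → ∀ y ∈ nth [] dW c, y ∈ L) → n < 2 ^ 15 →
      ∀ c, n.testBit c = true → wE b dW c ∈ gen b L := fun L n k hn c hc =>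
    ev_mem_gen (k c (bit_lt hn hc) hc)
  have mH := m HL 15343 (by decide +kernel) (by omega)
  have mH' := m HL' 24431 (by decide +kernel) (by omega)
  refine ⟨⟨fun c => ?_, mp, mH, mH', m AL 26599 (by decide +kernel) (by omega),
    fun c => g0 ▸ ev_mem_gen (dl c), iH, iH', iA, g0 ▸ hk, g0 ▸ comm_gen ht, h2⟩, e0⟩
  by_cases c1 : (15343 : ℕ).testBit c = true
  · exact iH _ (Subgroup.mul_mem _ (mH c c1) (mH c c1)) (by
      rw [map_mul, mp c (sub_true (by decide) c1), sm_sq])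
  by_cases c2 : (24431 : ℕ).testBit c = true
  · exact iH' _ (Subgroup.mul_mem _ (mH' c c2) (mH' c c2)) (by
      rw [map_mul, mp c (sub_true (by decide) c2), sm_sq])
  have : nth [] dW c = [] := by
    by_cases c3 : c < 15
    · revert c1 c2; revert c; decide +kernel
    · exact nth_default _ (by simp [dW, dw]; omega)
  rw [wE, this]; simp

end H29.YB.CV
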