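import Mathlib
import Cfsg.Agent.H29.CV.E0
import Cfsg.Agent.H29.CV.E1

/-!
# The extension splits over the centraliser of the node `d₁`
-/

set_option autoImplicit false
set_option maxRecDepth 100000
set_option linter.all false

namespace H29.YB.CV
open H19 H29.BE H29.BP H29.BP.Dat H29.BM H29.CV

section Gen
variable {G : Type*} [Group G]

theorem bd_two {e : ℕ → G} (h2 : ∀ n, e n * e n ∈ gen e (List.range n))
    (hc : ∀ n, ∀ j < n, (e n)⁻¹ * e j * e n ∈ gen e (List.range n)) :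
    ∀ n, Bd (gen e (List.range n)) (2 ^ n)
  | 0 => bd_nil e
  | n + 1 => by
    have hn : ∀ s ∈ gen e (List.range n), (e n)⁻¹ * s * e n ∈ gen e (List.range n) := fun s hs => by
      simpa using conj_gen (t := (e n)⁻¹) (H := gen e (List.range n))
        (fun c hc' => by simpa using hc n c (List.mem_range.1 hc')) s hs
    have h3 := h2 n
    have ih := bd_two h2 hc n
    have hg : ∀ c < n, e c ∈ gen e (List.range n) := fun c h => mem_gen (List.mem_range.2 h)
    generalize gen e (List.range n) = S at hn h3 ih hg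
    let M : Subgroup G :=
      { carrier := {g | g ∈ S ∨ (e n)⁻¹ * g ∈ S}
        one_mem' := Or.inl S.one_mem
        mul_mem' := by
          rintro a b (ha | ha) (hb | hb)
          · exact Or.inl (S.mul_mem ha hb)
          · exact Or.inr (by convert S.mul_mem (hn a ha) hb using 1; group)
          · exact Or.inr (by convert S.mul_mem ha hb using 1; group)
          · exact Or.inl (by convert S.mul_mem (S.mul_mem h3 (hn _ ha)) hb using 1; group)
        inv_mem' := by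
          rintro a (ha | ha)
          · exact Or.inl (S.inv_mem ha)
          · exact Or.inr (by convert S.mul_mem (hn _ (S.inv_mem ha)) (S.inv_mem h3) using 1; group) }
    have : Cv M S 2 := ⟨fun j => if j = 0 then 1 else e n, fun a ha => ha.elim
      (fun h => ⟨0, by omega, by simpa⟩) fun h => ⟨1, by omega, by simpa⟩⟩
    refine ((this.bd ih).of_le (gen_le.2 fun c hc' => ?_)).mono (pow_succ' 2 n).ge
    rcases Nat.lt_succ_iff_lt_or_eq.1 (List.mem_range.1 hc') with a | rfl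
    exacts [Or.inl (hg c a), Or.inr (by simp)]

theorem cv_of_bd {N Z : Subgroup G} {k m : ℕ} (hZ : Z ≤ N) (hN : Bd N (k * m))
    (hm : m ≤ Nat.card Z) (h0 : 0 < m) : Cv N Z k := by
  classical
  have := hN.1
  have a := (Z.subgroupOf N).card_mul_index
  rw [Nat.card_congr (Subgroup.subgroupOfEquivOfLe hZ).toEquiv, Subgroup.index] at a
  have b : Nat.card (N ⧸ Z.subgroupOf N) ≤ k := by
    have := hN.2
    refine Nat.le_of_mul_le_mul_right ?_ h0
    nlinarith
  let f := Finite.equivFin (N ⧸ Z.subgroupOf N)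
  refine ⟨fun j => if h : j < Nat.card (N ⧸ Z.subgroupOf N) then ((f.symm ⟨j, h⟩).out : N) else 1,
    fun a ha => ⟨f (QuotientGroup.mk ⟨a, ha⟩), (f _).2.trans_le b, ?_⟩⟩
  simp only [Fin.is_lt, dif_pos, Fin.eta, Equiv.symm_apply_apply]
  exact (QuotientGroup.eq (s := Z.subgroupOf N)).1
    (QuotientGroup.out_eq' (QuotientGroup.mk (⟨a, ha⟩ : N) : N ⧸ Z.subgroupOf N))

def alt (f : ℕ → G) : ℕ → G
  | 0 => 1
  | n + 1 => alt f n * ((f (2 * n))⁻¹ * f (2 * n + 1))

theorem alt_all {H : Subgroup G} {f : ℕ → G} : ∀ n, (∀ m < 2 * n, f m ∈ H) → alt f n ∈ H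
  | 0, _ => H.one_mem
  | n + 1, h => H.mul_mem (alt_all n fun m hm => h m (by omega))
      (H.mul_mem (H.inv_mem (h _ (by omega))) (h _ (by omega)))

theorem alt_mem {H : Subgroup G} {f : ℕ → G} {p : ℕ} : ∀ n, alt f n ∈ H → p < 2 * n →
    (∀ m < 2 * n, m ≠ p → f m ∈ H) → f p ∈ H
  | 0, _, h, _ => absurd h (by omega)
  | n + 1, a, h, b => by
    rw [alt] at a
    by_cases c : p < 2 * n
    · rw [H.mul_mem_cancel_right (H.mul_mem (H.inv_mem (b _ (by omega) (by omega)))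
        (b _ (by omega) (by omega)))] at a
      exact alt_mem n a c fun m hm => b m (by omega)
    · rw [H.mul_mem_cancel_left (alt_all n fun m hm => b m (by omega) (by omega))] at a
      obtain rfl | rfl : p = 2 * n ∨ p = 2 * n + 1 := by omega
      · rwa [H.mul_mem_cancel_right (b _ (by omega) (by omega)), H.inv_mem_iff] at a
      · rwa [H.mul_mem_cancel_left (H.inv_mem (b _ (by omega) (by omega)))] at a

theorem alt_conj (f : ℕ → G) (u v : G) : ∀ n, alt (fun m => u * f m * v) n = v⁻¹ * alt f n * v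
  | 0 => by simp [alt]
  | n + 1 => by rw [alt, alt, alt_conj f u v n]; group

theorem conj_fm {e : ℕ → G} {x : G} {m : ℕ → List ℕ} : ∀ {w : List ℕ},
    (∀ c ∈ w, x * e c * x⁻¹ = ev e (m c)) → x * ev e w * x⁻¹ = ev e (w.flatMap m)
  | [], _ => by simp
  | c :: w, h => by
    rw [List.flatMap_cons, ev_append, ev_cons, ← h c (by simp),
      ← conj_fm fun y hy => h y (by simp [hy])]
    group

end Gen

noncomputable def cmX (a b : ℕ) : Bool := and2 (cmN 14 a b) (inM 32751 [a, b])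
def XL : List ℕ := [0, 1, 3, 5, 6, 7, 8, 9, 10, 11, 12, 13, 14]

variable {G : Type} [Group G] {ρ : G →* GG} {t : G} {e : ℕ → G} {H H' A : Subgroup G}

noncomputable def pe (e : ℕ → G) (c : ℕ) : G × G := (e c, e (xb c))
noncomputable def Θ (e : ℕ → G) : Subgroup (G × G) := gen (pe e) UL
def δ (p : G × G) : G := p.2⁻¹ * p.1
def ζ (e : ℕ → G) : G := e 3 * e 11
def Zc (e : ℕ → G) (g : G) : Prop := (∀ k ∈ gen e XL, k * g = g * k) ∧ g * g = 1
def RE (ρ : G →* GG) (e : ℕ → G) (y : ℕ) (p : G × G) : Prop :=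
  p ∈ Θ e ∧ D.P xo * ρ p.1 = ρ p.1 * D.P y
noncomputable def dv (w : List ℕ) : List ℕ := (w.map xb).reverse ++ w
noncomputable def w2 : List ℕ := ex [4, 2, 1, 3, 2, 4]
noncomputable def zh (e : ℕ → G) : G := δ (ev (pe e) w2) * δ (ev (pe e) w2)

theorem ev_pe (w : List ℕ) : ev (pe e) w = (ev e w, ev e (w.map xb)) :=
  Prod.ext (map_ev (MonoidHom.fst G G) _ w) ((map_ev (MonoidHom.snd G G) _ w).trans (ev_map xb w))
theorem δ_mul (p q : G × G) : δ (p * q) = q.2⁻¹ * δ p * q.1 := by simp [δ, mul_assoc]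
theorem Zc.one : Zc e 1 := by simp [Zc]
theorem Zc.conj {g k : G} (h : Zc e g) (hk : k ∈ gen e XL) : k⁻¹ * g * k = g := by
  rw [mul_assoc, ← h.1 k hk, inv_mul_cancel_left]
theorem U_X : gen e UL ≤ gen e XL := gen_mono (by decide)

namespace Sit
variable (S : Sit ρ t e H H' A)
include S

theorem inv (c : ℕ) : (e c)⁻¹ = e c := inv_eq_of_mul_eq_one_right (S.sq c)
theorem ρw {w : List ℕ} (h : inM 32751 w = true) : ρ (ev e w) = ev sm w := by
  rw [map_ev]; exact ev_congr fun c hc => S.map c (inM_true h c hc)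
theorem oneH {w : List ℕ} (h : inM 15343 w = true) (a : ev sm w = 1) : ev e w = 1 :=
  S.iH _ (ev_mem fun c hc => S.mH c (inM_true h c hc)) ((S.ρw (allL_true.2 fun c hc => by
    rw [tb_eq]; exact sub_true (a := 15343) (by decide) (inM_true h c hc))).trans a)
theorem oneH' {w : List ℕ} (h : inM 24431 w = true) (a : ev sm w = 1) : ev e w = 1 :=
  S.iH' _ (ev_mem fun c hc => S.mH' c (inM_true h c hc)) ((S.ρw (allL_true.2 fun c hc => by
    rw [tb_eq]; exact sub_true (a := 24431) (by decide) (inM_true h c hc))).trans a)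
theorem oneA {w : List ℕ} (h : inM 26599 w = true) (a : ev sm w = 1) : ev e w = 1 :=
  S.iA _ (ev_mem fun c hc => S.mA c (inM_true h c hc)) ((S.ρw (allL_true.2 fun c hc => by
    rw [tb_eq]; exact sub_true (a := 26599) (by decide) (inM_true h c hc))).trans a)

theorem cm (a b : ℕ) (c : cmX a b = true) : e a * e b = e b * e a := by
  have h1 := inM_true (and2_true.1 c).2
  have ha := bit_lt (n := 15) (by decide) (h1 a (by simp))
  have hb := bit_lt (n := 15) (by decide) (h1 b (by simp))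
  have k : ev sm [a, b, a, b] = 1 := by
    have := comm_of_cox sm_sq sm_cox a b (and2_true.1 c).1
    simp only [ev_cons, ev_nil, mul_one]
    rw [← mul_assoc (sm b), ← this, mul_assoc, sm_sq, mul_one, sm_sq]
  have : or2 (inM 15343 [a, b, a, b]) (or2 (inM 24431 [a, b, a, b]) (inM 26599 [a, b, a, b])) = true := by
    clear h1 k; revert c; revert b; revert a; decide +kernel
  simp only [or2_true] at this
  exact comm_of_rel (iv_of_sq S.sq) (this.elim (S.oneH · k) (·.elim (S.oneH' · k) (S.oneA · k)))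
theorem eqv {v w : List ℕ} (c : eqR cmX v w = true) : ev e v = ev e w := eqR_sound S.sq S.cm c

theorem JH {w : List ℕ} {a b : ℕ} (c : and2 (inM 15343 (w ++ a :: w.reverse ++ [b])) (cJ w a b) = true) :
    ev e w * e a * (ev e w)⁻¹ = e b := by
  have := S.oneH (and2_true.1 c).1 (by
    rw [ev_append, ev_append, ev_cons, ev_rev sm_sq, ← mul_assoc, smJ (and2_true.1 c).2]
    simpa using sm_sq b)
  rwa [ev_append, ev_append, ev_cons, ev_rev S.sq, ← mul_assoc, ev_cons, ev_nil, mul_one,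
    mul_eq_one_iff_eq_inv, S.inv] at this

theorem X_L : gen e XL ≤ gen e L3 := gen_le.2 fun c _ => S.mL c
theorem ρζ : ρ (ζ e) = D.z := by rw [ζ, map_mul, S.map 3 rfl, S.map 11 rfl, sm_z]
theorem zc3 : Zc e (e 3) := ⟨comm_gen fun c hc => S.cm c 3 (by revert c; decide +kernel), S.sq 3⟩
theorem zc11 : Zc e (e 11) := ⟨comm_gen fun c hc => S.cm c 11 (by revert c; decide +kernel), S.sq 11⟩
omit S in
theorem zcm {a b : G} (ha : Zc e a) (hb : Zc e b) (h : b ∈ gen e XL) : Zc e (a * b) :=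
  ⟨fun k hk => by rw [← mul_assoc, ha.1 k hk, mul_assoc, hb.1 k hk, mul_assoc], by
    rw [mul_assoc, ← mul_assoc b, ha.1 b h, mul_assoc, hb.2, mul_one, ha.2]⟩
theorem zcζ : Zc e (ζ e) := zcm S.zc3 S.zc11 (mem_gen (by decide))
omit S in
theorem ζX : ζ e ∈ gen e XL := Subgroup.mul_mem _ (mem_gen (by decide)) (mem_gen (by decide))
theorem zc {g : G} (hg : g ∈ gen e XL) (h : ρ g = 1 ∨ ρ g = D.z) : Zc e g := by
  have k : ∀ g ∈ gen e XL, ρ g = 1 → Zc e g := fun g hg h => by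
    rcases S.ker g (S.X_L hg) h with rfl | rfl
    exacts [Zc.one, ⟨fun k hk => S.cen k (S.X_L hk), S.tt⟩]
  rcases h with h | h
  · exact k g hg h
  · simpa using zcm (k _ (Subgroup.mul_mem _ hg (Subgroup.inv_mem _ ζX))
      (by rw [map_mul, map_inv, S.ρζ, h, mul_inv_cancel])) S.zcζ ζX

theorem δw (w : List ℕ) : δ (ev (pe e) w) = ev e (dv w) := by
  rw [ev_pe, δ, dv, ev_append, ev_rev S.sq]

theorem th {p : G × G} (hp : p ∈ Θ e) : p.1 ∈ gen e UL ∧ p.2 ∈ H' ∧ p.2 ∈ gen e XL ∧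
    ρ p.1 ∈ gen sm UL ∧ ρ p.2 = xx * ρ p.1 * xx⁻¹ := by
  obtain ⟨w, a, rfl⟩ := exists_word (iv_of_sq fun c => Prod.ext (S.sq c) (S.sq (xb c))) (fun _ h => h) hp
  have k : ∀ c ∈ UL, (24431 : ℕ).testBit (xb c) = true ∧ xb c ∈ XL ∧ tb 32751 c = true ∧
    tb 32751 (xb c) = true ∧ (15339 : ℕ).testBit c = true := by decide +kernel
  have r : ρ (ev e w) = ev sm w := S.ρw (allL_true.2 fun c hc => (k c (a c hc)).2.2.1)
  rw [ev_pe, ← ev_map]
  refine ⟨ev_mem_gen a, ev_mem fun c hc => S.mH' _ (k c (a c hc)).1,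
    ev_mem fun c hc => mem_gen (k c (a c hc)).2.1, r ▸ ev_mem_gen a, ?_⟩
  rw [r, conj_ev (e := sm) (σ := xb) fun c hc => xx_sm (k c (a c hc)).2.2.2.2, map_ev, ← ev_map]
  exact ev_congr fun c hc => S.map _ (tb_eq _ _ ▸ (k c (a c hc)).2.2.2.1)
theorem U_H : gen e UL ≤ H := gen_le.2 fun c hc => S.mH c (by revert c; decide)
theorem thX {p : G × G} (hp : p ∈ Θ e) : p.1 ∈ gen e XL := U_X (S.th hp).1
theorem thK {p : G × G} (hp : p ∈ Θ e) : ρ p.1 ∈ D.KK := sm_K (by decide +kernel) (S.th hp).2.2.2.1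
theorem δX {p : G × G} (hp : p ∈ Θ e) : δ p ∈ gen e XL :=
  Subgroup.mul_mem _ (Subgroup.inv_mem _ (S.th hp).2.2.1) (S.thX hp)
theorem th_ext {p q : G × G} (hp : p ∈ Θ e) (hq : q ∈ Θ e) (h : ρ p.1 = ρ q.1) : p = q :=
  Prod.ext (S.iH.eq (S.U_H (S.th hp).1) (S.U_H (S.th hq).1) h)
    (S.iH'.eq (S.th hp).2.1 (S.th hq).2.1 (by rw [(S.th hp).2.2.2.2, (S.th hq).2.2.2.2, h]))

theorem th_w {w : List ℕ} (h : inM 15339 w = true) : ev (pe e) w ∈ Θ e := ev_mem fun c hc => by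
  have h1 := inM_true h c hc
  have h2 := bit_lt (n := 14) (by decide) h1
  by_cases a : c = 13
  · have m : ev (pe e) (powW 5 [0, 1, 8, 5, 6, 7]) ∈ Θ e := ev_mem_gen (by decide +kernel)
    have b : ρ (ev (pe e) (powW 5 [0, 1, 8, 5, 6, 7])).1 = sm 13 := by
      rw [ev_pe, S.ρw (by decide +kernel), sm13]
    rw [a, show pe e 13 = _ from Prod.ext
      (S.iH.eq (S.mH 13 rfl) (S.U_H (S.th m).1) ((S.map 13 rfl).trans b.symm))
      (S.iH'.eq (S.mH' 10 rfl) (S.th m).2.1 (by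
        rw [(S.th m).2.2.2.2, b, xx_sm rfl]; exact S.map 10 rfl))]
    exact m
  · exact mem_gen (by clear hc; revert h1 a; revert c; decide)

theorem ρ1 {w : List ℕ} (h : inM 15339 w = true) : ρ (ev (pe e) w).1 = ev sm w := by
  rw [ev_pe]; exact S.ρw (allL_true.2 fun c hc => by
    rw [tb_eq]; exact sub_true (a := 15339) (by decide) (inM_true h c hc))
theorem RE_w {y : ℕ} {p : G × G} (a : RE ρ e y p) {w : List ℕ} (h : inM 15339 w = true) :
    RE ρ e (cw tm w y) (p * ev (pe e) w) :=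
  ⟨Subgroup.mul_mem _ a.1 (S.th_w h), by
    rw [Prod.fst_mul, map_mul, ← mul_assoc, a.2, mul_assoc, S.ρ1 h, cw_sound w (fun c hc =>
      (sm_tab c (sub_true (a := 15339) (by decide) (inM_true h c hc))).2), mul_assoc]⟩
omit S in
theorem RE_one : RE ρ e xo 1 := ⟨Subgroup.one_mem _, by simp⟩
theorem RE_w1 {w : List ℕ} (h : inM 15339 w = true) : RE ρ e (cw tm w xo) (ev (pe e) w) :=
  one_mul (ev (pe e) w) ▸ S.RE_w RE_one h

theorem δ3 : δ (pe e 3) = ζ e := by
  rw [δ, ζ, S.cm 3 11 (by decide +kernel)]; exact congrArg (· * e 3) (S.inv 11)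

theorem Vl : ∀ w : List ℕ, (∀ c ∈ w, c ∈ VL) → (δ (ev (pe e) w) = 1 ∨ δ (ev (pe e) w) = ζ e) ∧
    D.P xo * ev sm w = ev sm w * D.P xo * ρ (δ (ev (pe e) w))
  | [], _ => by simp [δ]
  | c :: w, h => by
    obtain ⟨a, b⟩ := Vl w fun y hy => h y (by simp [hy])
    have hc := h c (by simp)
    have m : ev (pe e) w ∈ Θ e := ev_mem_gen fun y hy =>
      (show ∀ y ∈ VL, y ∈ UL by decide) y (h y (by simp [hy]))
    have mk : ev sm w ∈ D.KK := sm_K (L := VL) (by decide +kernel)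
      (ev_mem_gen fun y hy => h y (by simp [hy]))
    have k := (sm_tab c (by clear h; revert c; decide)).2.cj xo
    have : (xb c = c ∧ cj (tm c) xo = xo) ∨ ((c = 3 ∨ c = 11) ∧ cj (tm c) xo = xo ^^^ zb true) := by
      clear h k; revert c; decide +kernel
    rw [ev_cons, ev_cons, δ_mul, ← mul_assoc, k]
    rcases this with ⟨h1, h2⟩ | ⟨h1, h2⟩
    · rw [show δ (pe e c) = 1 by rw [δ, pe, h1]; simp, mul_one, h2, mul_assoc, b]
      exact ⟨a, by simp [δ, mul_assoc]⟩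
    · have : δ (pe e c) = ζ e := by
        rcases h1 with rfl | rfl
        exacts [S.δ3, congrArg (· * e 11) (S.inv 3)]
      rw [this, mul_assoc _ (ζ e), ← S.zcζ.1 _ (S.thX m), ← mul_assoc, h2]
      refine ⟨a.elim (fun a => Or.inr (by rw [δ] at a; rw [a, one_mul])) fun a =>
        Or.inl (by rw [δ] at a; rw [a, S.zcζ.2]), ?_⟩
      rw [map_mul, S.ρζ, show D.P (xo ^^^ zb true) = D.P xo * D.z from (Pu_mul_zb _ _ _).symm,
        mul_assoc, mul_assoc, ← mk.comm, ← mul_assoc (D.P xo), b]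
      simp [δ, mul_assoc]

theorem fixV {p : G × G} (hp : p ∈ Θ e) (c : CRel D (ρ p.1) xo xo) :
    (δ p = 1 ∨ δ p = ζ e) ∧ D.P xo * ρ p.1 = ρ p.1 * D.P xo * ρ (δ p) := by
  have : ρ p.1 ∈ gen sm VL := U_count.1 ▸ ⟨⟨(S.th hp).2.2.2.1, S.thK hp⟩, fun x hx =>
    List.mem_singleton.1 hx ▸ c⟩
  obtain ⟨w, a, b⟩ := exists_word sm_iv (fun _ h => h) this
  have m : inM 15339 w = true := allL_true.2 fun c hc =>
    (show ∀ y ∈ VL, tb 15339 y = true by decide +kernel) c (a c hc)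
  obtain rfl := S.th_ext (S.th_w m) hp ((S.ρ1 m).trans b)
  rw [← b]; exact S.Vl w a

theorem same {p q : G × G} {y : ℕ} (hp : p ∈ Θ e) (hq : q ∈ Θ e) (a : CRel D (ρ p.1) xo y)
    (b : CRel D (ρ q.1) xo y) : δ q * δ q = δ p * δ p := by
  have := (S.fixV (Subgroup.mul_mem _ hq (Subgroup.inv_mem _ hp)) (by
    rw [Prod.fst_mul, Prod.fst_inv, map_mul, map_inv]
    exact b.mul (D.KK.inv_mem (S.thK hp)).comm (a.inv (S.thK hp).comm))).1
  rw [← inv_mul_cancel_right q p, δ_mul]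
  rcases this with c | c <;> rw [c]
  · simp [δ]
  · rw [mul_assoc _ (ζ e), ← S.zcζ.1 _ (S.thX hp), ← mul_assoc p.2⁻¹,
      show p.2⁻¹ * p.1 = δ p from rfl, mul_assoc, ← mul_assoc (ζ e), ← S.zcζ.1 _ (S.δX hp),
      mul_assoc, S.zcζ.2, mul_one]

theorem uniq {p q : G × G} {y : ℕ} (a : RE ρ e y p) (b : RE ρ e y q) : δ q = δ p := by
  have k : D.P xo * ρ (q * p⁻¹).1 = ρ (q * p⁻¹).1 * D.P xo := by
    rw [Prod.fst_mul, Prod.fst_inv, map_mul, map_inv, ← mul_assoc, b.2, mul_assoc, mul_assoc,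
      mul_right_inj, mul_inv_eq_iff_eq_mul, mul_assoc, a.2, inv_mul_cancel_left]
  obtain ⟨c, d⟩ := S.fixV (Subgroup.mul_mem _ b.1 (Subgroup.inv_mem _ a.1)) ⟨false, by simpa using k⟩
  rw [k, left_eq_mul] at d
  rw [← inv_mul_cancel_right q p, δ_mul, c.resolve_right fun c => zz_ne _ (by
    rw [c, S.ρζ] at d; exact d)]
  simp [δ]

theorem zcz : Zc e (zh e) ∧ zh e ∈ gen e XL := by
  have m := S.δX (S.th_w (w := w2) (by decide +kernel))
  refine ⟨S.zc (Subgroup.mul_mem _ m m) ?_, Subgroup.mul_mem _ m m⟩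
  rw [zh, S.δw, ← ev_append, S.ρw (by decide +kernel)]
  have a1 := tab_of_chk sm_tab (w := dv w2 ++ dv w2) (M := tI) (by decide +kernel)
  have a2 := tab_of_chk sm_tab (w := []) (M := tI) (by decide +kernel)
  simpa using eq_of_tab_BB a1.1 a2.1 (ev_mem fun c hc => sm_BB (by revert c; decide +kernel))
    BB.one_mem (Tab.same a1.2 a2.2)

theorem sqd {p : G × G} (hp : p ∈ Θ e) : δ p * δ p = 1 ∨ δ p * δ p = zh e := by
  have f : ∀ i < 1408, ∃ p ∈ Θ e, CRel D (ρ p.1) xo (f32 foV i) ∧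
      (δ p * δ p = 1 ∨ δ p * δ p = zh e) := by
    refine for_sound (Q := fun y => ∃ p ∈ Θ e, CRel D (ρ p.1) xo y ∧
      (δ p * δ p = 1 ∨ δ p * δ p = zh e)) foa (fun i hi => ?_) ?_
    · interval_cases i
      · exact ⟨1, Subgroup.one_mem _, fo0 ▸ ⟨false, by simp⟩, Or.inl (by simp [δ])⟩
      · have := S.RE_w1 (w := [13]) (by decide +kernel)
        exact ⟨_, this.1, CRel.of_eq this.2 (by decide +kernel), Or.inl (by
          rw [S.δw, ← ev_append]; exact S.eqv (w := []) (by decide +kernel))⟩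
      · have := S.RE_w1 (w := w2) (by decide +kernel)
        exact ⟨_, this.1, CRel.of_eq this.2 (by decide +kernel), Or.inr rfl⟩
    · rintro _ hM x y ⟨p, h0, h1, h2⟩ a
      obtain ⟨c, hc, rfl⟩ := List.mem_map.1 hM
      clear hM
      have k : c ∈ UL ∧ xb c = c ∧ (65515 : ℕ).testBit c = true ∧ (32751 : ℕ).testBit c = true := by
        clear a; revert c; decide +kernel
      refine ⟨p * pe e c, Subgroup.mul_mem _ h0 (mem_gen k.1), ?_, ?_⟩
      · rw [Prod.fst_mul, map_mul, show ρ (pe e c).1 = sm c from S.map c k.2.2.2]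
        exact h1.mul (sm_tab c k.2.2.1).1.comm (tab_crel (sm_tab c k.2.2.1).2 a)
      · rw [δ_mul, pe, k.2.1, show (e c, e c).2⁻¹ * δ p * (e c, e c).1 * ((e c, e c).2⁻¹ * δ p *
          (e c, e c).1) = (e c)⁻¹ * (δ p * δ p) * e c by group]
        exact h2.imp (fun h => by rw [h]; simp) fun h => by
          rw [h, S.zcz.1.conj (U_X (mem_gen k.1))]
  obtain ⟨h, h1, h2⟩ := π_gen UL ▸ (S.th hp).2.2.2.1
  obtain ⟨i, hi, c⟩ := U_count.2.2 h h1
  obtain ⟨q, a1, a2, a3⟩ := f i hi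
  rwa [S.same a1 hp a2 (h2 ▸ c)]

theorem cmt {p q : G × G} (hp : p ∈ Θ e) (hq : q ∈ Θ e) :
    (δ p)⁻¹ * δ q * ((δ p)⁻¹ * δ q) = 1 ∨ (δ p)⁻¹ * δ q * ((δ p)⁻¹ * δ q) = zh e := by
  rw [show (δ p)⁻¹ * δ q * ((δ p)⁻¹ * δ q) = p.1⁻¹ * (δ (q * p⁻¹) * δ (q * p⁻¹)) * p.1 by
    simp [δ, mul_assoc]]
  exact (S.sqd (Subgroup.mul_mem _ hq (Subgroup.inv_mem _ hp))).imp (fun h => by rw [h]; simp)
    fun h => by rw [h, S.zcz.1.conj (S.thX hp)]

end Sit

end H29.YB.CV
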