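import Mathlib
import Cfsg.Agent.H29.CV.E2

/-!
# The extension splits
-/

set_option autoImplicit false
set_option maxRecDepth 100000
set_option linter.all false

namespace H29.YB.CV
open H19 H29.BE H29.BP H29.BP.Dat H29.BM H29.CV

variable {G : Type} [Group G] {ρ : G →* GG} {t : G} {e : ℕ → G} {H H' A : Subgroup G}

open Classical in
noncomputable def eb (ρ : G →* GG) (e : ℕ → G) (i : ℕ) : G := if i = 0 then zh e else
  if i = 1 then e 11 else if h : ∃ p, RE ρ e (f32 kv (i - 1)) p then δ h.choose else 1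
noncomputable def NN (ρ : G →* GG) (e : ℕ → G) : Subgroup G := gen (eb ρ e) (List.range 22)
def Kn (ρ : G →* GG) (e : ℕ → G) (y : ℕ) : Prop := ∀ p, RE ρ e y p → δ p ∈ NN ρ e

theorem N11 : e 11 ∈ NN ρ e := mem_gen (e := eb ρ e) (c := 1) (by decide)

namespace Sit
variable (S : Sit ρ t e H H' A)
include S

theorem eb_cases (i : ℕ) : (Zc e (eb ρ e i) ∧ eb ρ e i ∈ gen e XL) ∨
    (2 ≤ i ∧ ∃ p ∈ Θ e, eb ρ e i = δ p) := by
  rw [eb]
  split_ifs with h1 h2 h3
  exacts [Or.inl S.zcz, Or.inl ⟨S.zc11, mem_gen (by decide)⟩,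
    Or.inr ⟨by omega, _, h3.choose_spec.1, rfl⟩, Or.inl ⟨Zc.one, Subgroup.one_mem _⟩]

theorem N_bd : Bd (NN ρ e) (2 ^ 22) := by
  have x : ∀ i, eb ρ e i ∈ gen e XL := fun i => (S.eb_cases i).elim (·.2) fun ⟨_, p, hp, h⟩ =>
    h ▸ S.δX hp
  have z : ∀ {n} {a : G}, 2 ≤ n → a = 1 ∨ a = zh e → a ∈ gen (eb ρ e) (List.range n) := by
    rintro n a h (rfl | rfl)
    exacts [Subgroup.one_mem _, mem_gen (e := eb ρ e) (c := 0) (List.mem_range.2 (by omega))]
  have s : ∀ n, eb ρ e n * eb ρ e n ∈ gen (eb ρ e) (List.range n) := fun n => by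
    rcases S.eb_cases n with h | ⟨h, p, hp, a⟩
    · rw [h.1.2]; exact Subgroup.one_mem _
    · rw [a]; exact z h (S.sqd hp)
  refine bd_two s (fun n j hj => ?_) 22
  have m : eb ρ e j ∈ gen (eb ρ e) (List.range n) := mem_gen (List.mem_range.2 hj)
  rcases S.eb_cases n with h | ⟨h, p, hp, a⟩
  · rwa [mul_assoc, h.1.1 _ (x j), inv_mul_cancel_left]
  rcases S.eb_cases j with k | ⟨-, q, hq, b⟩
  · rwa [k.1.conj (x n)]
  · have := Subgroup.mul_mem _ (Subgroup.mul_mem _ (z h (S.cmt hp hq)) (Subgroup.inv_mem _ m)) (s n)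
    rw [← a, ← b] at this
    convert this using 1; group

theorem Kn_of {y : ℕ} {p : G × G} (a : RE ρ e y p) (b : δ p ∈ NN ρ e) : Kn ρ e y :=
  fun q c => S.uniq a c ▸ b

theorem seed1 : alt (fun m => δ (ev (pe e) (nth [] (nth [] sw 1) m))) 3 = e 11 := by
  have c : ∀ c ∈ [0, 1, 2, 3, 5, 8, 9], ev e w0 * e c * (ev e w0)⁻¹ = ev e (img c) := by
    have j : ∀ {a b}, and2 (inM 15343 (w0 ++ a :: w0.reverse ++ [b])) (cJ w0 a b) = true →
      ev e w0 * e a * (ev e w0)⁻¹ = ev e [b] := fun h => (S.JH h).trans (mul_one _).symm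
    simp only [List.forall_mem_cons]
    refine ⟨j (b := 0) (by decide +kernel), j (b := 5) (by decide +kernel),
      j (b := 6) (by decide +kernel), j (b := 7) (by decide +kernel), j (b := 1) (by decide +kernel),
      ?_, j (b := 9) (by decide +kernel), by simp⟩
    have := S.JH (w := k8.reverse ++ w0) (a := 8) (b := 0) (by decide +kernel)
    rw [show img 8 = k8 ++ 0 :: k8.reverse from rfl, ev_append, ev_cons, ← this, ev_append,
      ev_rev S.sq]
    group
  have c10 : ev e w0 * e 10 * (ev e w0)⁻¹ = e 10 := by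
    have := S.eqv (v := w0 ++ [10]) (w := 10 :: w0) (by decide +kernel)
    rw [ev_append, ev_cons, ev_nil, mul_one] at this
    rw [this, ev_cons, mul_inv_cancel_right]
  have c11 := S.JH (w := w0) (a := 11) (b := 11) (by decide +kernel)
  have c13 := S.JH (w := w0 ++ v3) (a := 3) (b := 13) (by decide +kernel)
  have r : ∀ k : List ℕ, (∀ c ∈ k, c ∈ [0, 1, 2, 3, 5, 8, 9]) → (δ (ev (pe e) (k.flatMap img)))⁻¹ *
      δ (ev (pe e) (13 :: k.flatMap img)) = ev e w0 * ev e (rl k) * (ev e w0)⁻¹ := fun k hk => by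
    have := conj_fm (fun y hy => c y (hk y hy))
    rw [ev_cons, δ_mul, ev_pe, show δ (pe e 13) = (e 10)⁻¹ * e 13 from rfl, S.inv, δ, ← this, ← c10,
      ← c13, rl]
    simp only [ev_append, ev_cons, ev_rev S.sq]
    group
  have h := S.oneH' (w := rl ka ++ rl kb ++ rl kc ++ [11]) (by decide +kernel) (by
    have := sm_one (by decide +kernel) rl_ok
    rw [om_ev (by decide +kernel)] at this
    simpa using this)
  rw [ev_append, ev_cons, ev_nil, mul_one, mul_eq_one_iff_eq_inv, S.inv, ev_append, ev_append] at h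
  calc _ = 1 * ((δ (ev (pe e) (ka.flatMap img)))⁻¹ * δ (ev (pe e) (13 :: ka.flatMap img))) *
      ((δ (ev (pe e) (kb.flatMap img)))⁻¹ * δ (ev (pe e) (13 :: kb.flatMap img))) *
      ((δ (ev (pe e) (kc.flatMap img)))⁻¹ * δ (ev (pe e) (13 :: kc.flatMap img))) := rfl
    _ = _ := by
      rw [r ka (by decide), r kb (by decide), r kc (by decide), ← c11, ← h]; group

theorem seed0 : alt (fun m => δ (ev (pe e) (nth [] (nth [] sw 0) m))) 2 = 1 := by
  calc _ = 1 * ((δ (ev (pe e) []))⁻¹ * δ (ev (pe e) [7])) *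
      ((δ (ev (pe e) [7, 13]))⁻¹ * δ (ev (pe e) [13])) := rfl
    _ = _ := by
      simp only [S.δw, ← ev_rev S.sq, ← ev_append, one_mul]
      exact S.eqv (w := []) (by decide +kernel)

theorem known : ∀ i < 407, Kn ρ e (f32 kv i) := by
  intro i
  induction i using Nat.strong_induction_on with
  | _ i ih =>
    intro hi
    have := allN_true.1 stp_ok i hi
    generalize nth (0, 0, [], []) stp (Nat.sub i 21) = x at this
    obtain ⟨s, p, w, js⟩ := x
    simp only [or2_true, ble_true, and2_true, allN_true, lit_e, beq_true] at this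
    rcases this with h | ⟨⟨hs, hp, hw⟩, h⟩
    · by_cases z : i = 0
      · rw [z, kv0]; exact S.Kn_of RE_one (by simp [δ])
      intro k hk
      have c : ∃ h, RE ρ e (f32 kv (i + 1 - 1)) h := ⟨k, hk⟩
      refine S.Kn_of c.choose_spec ?_ k hk
      have := mem_gen (e := eb ρ e) (l := List.range 22) (c := i + 1) (by simp; omega)
      rwa [eb, if_neg (by omega), if_neg (by omega), dif_pos c] at this
    · have hw' : inM 15339 w = true := allL_true.2 fun c hc => by
        rw [tb_eq]; exact sub_true (a := 7147) (by decide) (inM_true hw c hc)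
      have r : ∀ m < 2 * (s + 2), RE ρ e (f32 kv (nth 0 js m))
          (ev (pe e) (nth [] (nth [] sw s) m) * ev (pe e) w) := fun m hm => by
        have a := and2_true.1 (allN_true.1 (allN_true.1 sw_ok s (by omega)) m hm)
        rw [← (h m hm).2, ← beq_true.1 a.2]
        exact S.RE_w (S.RE_w1 a.1) hw'
      have a : nth 0 js p = i := by
        have := (h p (by omega)).1
        rw [beq_true.2 rfl] at this
        exact beq_true.1 this
      refine S.Kn_of (a ▸ r p (by omega)) (alt_mem (f := fun m => δ (ev (pe e)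
        (nth [] (nth [] sw s) m) * ev (pe e) w)) (s + 2) ?_ (by omega) fun m hm c => ?_)
      · simp only [δ_mul]
        rw [alt_conj]
        interval_cases s
        · rw [S.seed0]; simp
        · rw [S.seed1, S.zc11.conj (S.thX (S.th_w hw'))]; exact N11
      · have := (h m hm).1
        rw [show Nat.beq m p = false from Bool.eq_false_iff.2 fun h => c (beq_true.1 h)] at this
        have a : nth 0 js m < i := ble_true.1 this
        exact ih _ a (by omega) _ (r m hm)

theorem tgt {i c : ℕ} (hi : i < 21) (hc : c ∈ [0, 1, 5, 6, 7, 8, 9, 12]) {p : G × G}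
    (h : RE ρ e (f32 kv i) p) : δ (p * pe e c) ∈ NN ρ e := by
  have a := allL_true.1 (allN_true.1 tgt_ok i hi) c hc
  rw [lit_e] at a
  obtain ⟨j, hj, b⟩ := anyN_true a
  have := S.RE_w h (w := [c]) (by clear a b; revert c; decide +kernel)
  rw [ev_cons, ev_nil, mul_one, show cw tm [c] (f32 kv i) = cj (tm c) (f32 kv i) from lit_e _ _,
    beq_true.1 b] at this
  exact S.known j hj _ this

theorem N_norm {h : G} (hh : h ∈ gen e UL) : ∀ a ∈ NN ρ e, h * a * h⁻¹ ∈ NN ρ e := by
  let T : Subgroup G :=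
    { carrier := {h | (∀ a ∈ NN ρ e, h * a * h⁻¹ ∈ NN ρ e) ∧ ∀ a ∈ NN ρ e, h⁻¹ * a * h ∈ NN ρ e}
      one_mem' := by simp
      mul_mem' := fun {x y} hx hy => ⟨fun a ha => by simpa [mul_assoc] using hx.1 _ (hy.1 a ha),
        fun a ha => by simpa [mul_assoc] using hy.2 _ (hx.2 a ha)⟩
      inv_mem' := fun {x} hx => ⟨by simpa using hx.2, by simpa using hx.1⟩ }
  refine ((gen_le (H := T)).2 (fun c hc => ?_) hh).1
  have : ∀ a ∈ NN ρ e, (e c)⁻¹ * a * (e c)⁻¹⁻¹ ∈ NN ρ e := conj_gen fun i hi => by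
    have m : eb ρ e i ∈ NN ρ e := mem_gen hi
    rw [inv_inv]
    by_cases z : c = 3 ∨ c = 11
    · have x : eb ρ e i ∈ gen e XL := (S.eb_cases i).elim (·.2) fun ⟨_, p, hp, h⟩ => h ▸ S.δX hp
      rwa [mul_assoc, (z.elim (· ▸ S.zc3) (· ▸ S.zc11) : Zc e (e c)).1 _ x, inv_mul_cancel_left]
    have hc' : c ∈ [0, 1, 5, 6, 7, 8, 9, 12] := by clear m; revert z; revert c; decide
    rw [eb] at m ⊢
    split_ifs at m ⊢ with h1 h2 h3
    · rwa [S.zcz.1.conj (U_X (mem_gen hc))]
    · rwa [S.zc11.conj (U_X (mem_gen hc))]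
    · have a := S.tgt (i := 0) (by omega) hc' (kv0 ▸ RE_one)
      have b := S.tgt (by simp at hi; omega) hc' h3.choose_spec
      convert Subgroup.mul_mem _ (Subgroup.inv_mem _ a) b using 1
      simp [δ, pe, mul_assoc]
    · simp
  exact ⟨by simpa [S.inv] using this, by simpa using this⟩

theorem E_bd : Bd (gen e EL) (2 ^ 20 * 36787322880) := by
  let W : Subgroup G :=
    { carrier := {g | ∃ a ∈ NN ρ e, a⁻¹ * g ∈ gen e UL}
      one_mem' := ⟨1, Subgroup.one_mem _, by simp⟩
      mul_mem' := by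
        rintro x y ⟨a, ha, hx⟩ ⟨b, hb, hy⟩
        exact ⟨_, Subgroup.mul_mem _ ha (S.N_norm hx b hb), by
          convert Subgroup.mul_mem _ hx hy using 1; group⟩
      inv_mem' := by
        rintro x ⟨a, ha, hx⟩
        exact ⟨_, S.N_norm (Subgroup.inv_mem _ hx) _ (Subgroup.inv_mem _ ha), by
          convert Subgroup.inv_mem _ hx using 1; group⟩ }
  have k : ∀ {j c}, j < 407 → inM 15339 [c] = true → f32 kv j = cw tm [c] xo → δ (pe e c) ∈ NN ρ e :=
    fun hj hc h => by simpa using S.known _ hj (ev (pe e) [_]) (by rw [h]; exact S.RE_w1 hc)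
  have hZ : gen e [3, 11] ≤ NN ρ e := gen_le.2 (by
    have := k (by omega) (by decide +kernel) kvz
    rw [S.δ3, ζ, Subgroup.mul_mem_cancel_right _ N11] at this
    simp only [List.forall_mem_cons]
    exact ⟨this, N11, by simp⟩)
  have c4 : 4 ≤ Nat.card (gen e [3, 11]) := by
    have := (S.N_bd.of_le hZ).1
    have m : (gen e [3, 11]).map ρ = gen sm [3, 11] := by
      rw [map_gen]; exact gen_congr fun c hc => S.map c (by revert c; decide)
    have : Finite (gen sm [3, 11]) :=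
      Finite.of_injective _ (Subgroup.inclusion_injective (sm_K (by decide +kernel)))
    exact ((card_Fx4 (H := gen sm [3, 11]) (sm_z ▸ Subgroup.mul_mem _ (mem_gen (by decide))
      (mem_gen (by decide))) (sm11 ▸ mem_gen (by decide)) []).trans
      (Subgroup.card_le_of_le Fx_le')).trans
      (m ▸ Nat.card_le_card_of_surjective _ (ρ.subgroupMap_surjective _))
  have cv : Cv W (gen e UL) (2 ^ 20) := by
    obtain ⟨C, h⟩ := cv_of_bd (k := 2 ^ 20) hZ (S.N_bd.mono (by norm_num)) c4 (by omega)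
    refine ⟨C, ?_⟩
    rintro g ⟨a, ha, hg⟩
    exact (h a ha).imp fun j hj => ⟨hj.1, by
      simpa [mul_assoc] using Subgroup.mul_mem _ ((gen_mono (by decide) : _ ≤ gen e UL) hj.2) hg⟩
  have u : Bd (gen e UL) 36787322880 := Tr.bd (e := σ) (fun w hw h => S.oneH (allL_true.2 fun c hc =>
    (show ∀ c ∈ UL, tb 15343 c = true by decide +kernel) c (hw c hc)) (by rw [← π_ev, h, map_one]))
    σ_iv (iv_of_sq S.sq) (fun _ h => h) U_bd
  refine (cv.bd u).of_le (gen_le.2 fun c hc => ?_)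
  rcases List.mem_cons.1 hc with rfl | hc
  · refine ⟨_, k (by omega) (by decide +kernel) kvt, ?_⟩
    have := (S.th (S.th_w (w := [13]) (by decide +kernel))).1
    rw [ev_cons, ev_nil, mul_one] at this
    rw [show δ (pe e 13) = (e 10)⁻¹ * e 13 from rfl, mul_inv_rev, inv_inv, mul_assoc, S.sq, mul_one]
    exact Subgroup.inv_mem _ this
  · exact ⟨1, Subgroup.one_mem _, by simpa using mem_gen hc⟩

theorem E_map : (gen e EL).map ρ = gen sm EL := by
  rw [map_gen]; exact gen_congr fun c hc => S.map c (by revert c; decide)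

theorem E_inj : Inj ρ (gen e EL) := by
  have := S.E_bd.1
  have a : Function.Bijective (ρ.subgroupMap (gen e EL)) :=
    (ρ.subgroupMap_surjective _).bijective_of_nat_card_le (by rw [S.E_map, card_E0]; exact S.E_bd.2)
  intro x hx h
  exact congrArg Subtype.val (a.1 (a₁ := ⟨x, hx⟩) (a₂ := 1) (Subtype.ext (by simpa using h)))

theorem L_inj (h3 : ∀ a ∈ N3, ∀ b ∈ N3, (e a * e b) ^ ord a b = 1)
    (f2 : ev e [0, 1, 2, 5, 6, 7, 8] ^ 9 = 1) : Inj ρ (gen e L3) := by
  classical
  intro x hx hρ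
  refine (S.ker x hx hρ).elim id fun a => ?_
  subst a
  by_contra hn
  have lm : (gen e L3).map ρ = gen sm L3 := by
    rw [map_gen]; exact gen_congr fun c hc => S.map c (by revert c; decide)
  have el : gen e EL ≤ gen e L3 := gen_le.2 fun c _ => S.mL c
  have el' : gen sm EL ≤ gen sm L3 := S.E_map ▸ lm ▸ Subgroup.map_mono el
  let φ : gen e L3 →* gen sm L3 := (ρ.comp (gen e L3).subtype).codRestrict _ fun g => lm ▸ ⟨g, g.2, rfl⟩
  have φs : Function.Surjective φ := fun ⟨y, hy⟩ => by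
    obtain ⟨g, h1, h2⟩ := lm ▸ hy
    exact ⟨⟨g, h1⟩, Subtype.ext h2⟩
  let P := ((gen sm EL).subgroupOf (gen sm L3)).comap φ
  have ix : P.index = 3968055 := by
    have := ((gen sm EL).subgroupOf (gen sm L3)).card_mul_index
    rw [Nat.card_congr (Subgroup.subgroupOfEquivOfLe el').toEquiv, card_E0, card_L3] at this
    rw [Subgroup.index_comap_of_surjective _ φs]
    omega
  have : P.FiniteIndex := ⟨by omega⟩
  have dich : ∀ s : P, s.1.1 ∉ gen e EL → s.1.1 * x ∈ gen e EL := fun s hs => by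
    obtain ⟨g, h1, h2⟩ : ρ s.1.1 ∈ (gen e EL).map ρ := S.E_map ▸ s.2
    rcases S.ker (g⁻¹ * s.1.1) (Subgroup.mul_mem _ (Subgroup.inv_mem _ (el h1)) s.1.2)
      (by rw [map_mul, map_inv, h2, inv_mul_cancel]) with a | a
    · exact absurd (inv_mul_eq_one.1 a ▸ h1) hs
    · rwa [inv_mul_eq_iff_eq_mul.1 a, mul_assoc, S.tt, mul_one]
  let χ : P →* ℤˣ := MonoidHom.mk' (fun s => if s.1.1 ∈ gen e EL then 1 else -1) fun a b => by
    by_cases ha : a.1.1 ∈ gen e EL <;> by_cases hb : b.1.1 ∈ gen e EL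
    · simp [ha, hb, Subgroup.mul_mem _ ha hb]
    · simp [ha, hb, Subgroup.mul_mem_cancel_left _ ha]
    · simp [ha, hb, Subgroup.mul_mem_cancel_right _ hb]
    · have := Subgroup.mul_mem _ (dich a ha) (dich b hb)
      rw [mul_assoc, ← mul_assoc x, ← S.cen _ b.1.2, mul_assoc, S.tt, mul_one] at this
      simp [ha, hb, this]
  let V := MonoidHom.transfer χ
  have v1 : V ⟨x, hx⟩ = -1 := by
    have o : (⟨x, hx⟩ : gen e L3) ^ P.index = ⟨x, hx⟩ := Subtype.ext (by
      rw [ix, SubmonoidClass.coe_pow, show 3968055 = 2 * 1984027 + 1 from rfl, pow_succ, pow_mul,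
        pow_two, S.tt, one_pow, one_mul])
    rw [MonoidHom.transfer_eq_pow χ _ fun k g _ => by
      have : Commute g ⟨x, hx⟩ := Subtype.ext (S.cen _ g.2)
      rw [mul_assoc, ← (this.pow_right k).eq, inv_mul_cancel_left]]
    exact if_neg fun h => hn (S.E_inj _ (by
      have h' : ((⟨x, hx⟩ : gen e L3) ^ P.index).1 ∈ gen e EL := h
      rwa [o] at h') hρ)
  let s : ℕ → ℤˣ := fun c => V ⟨e c, S.mL c⟩
  have sv : ∀ w : List ℕ, ∀ n, ev e w ^ n = 1 → ev s w ^ n = 1 := fun w n h => by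
    rw [← map_ev V, ← map_pow, show ev (fun c => (⟨e c, S.mL c⟩ : gen e L3)) w ^ n = 1 from
      Subtype.ext ((congrArg (· ^ n) (map_ev (gen e L3).subtype _ w)).trans h), map_one]
  have br : ∀ a b, a ∈ N3 ∧ b ∈ N3 ∧ ord a b = 3 → s b = s a := fun a b h => by
    have := sv [a, b] 3 (by simpa [h.2.2] using h3 a h.1 b h.2.1)
    simp only [ev_cons, ev_nil, mul_one] at this
    rcases Int.units_eq_one_or (s a) with p | p <;> rcases Int.units_eq_one_or (s b) with q | q <;>
      rw [p, q] at this ⊢ <;> exact absurd this (by decide)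
  have b1 := br 0 1 (by decide)
  have b2 := (br 1 2 (by decide)).trans b1
  have b5 := br 0 5 (by decide)
  have b6 := (br 5 6 (by decide)).trans b5
  have b7 := (br 6 7 (by decide)).trans b6
  have b8 := br 0 8 (by decide)
  have b9 := (br 8 9 (by decide)).trans b8
  have b0 : s 0 = 1 := by
    have := sv _ _ f2
    simp only [ev_cons, ev_nil, b1, b2, b5, b6, b7, b8] at this
    rcases Int.units_eq_one_or (s 0) with p | p
    · exact p
    · rw [p] at this; exact absurd this (by decide)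
  have : gen e L3 ≤ V.ker.map (gen e L3).subtype := gen_le.2 fun c hc => ⟨⟨e c, S.mL c⟩, by
    change s c = 1
    revert c
    simp only [L3, List.forall_mem_cons]
    exact ⟨b0, b1 ▸ b0, b2 ▸ b0, (br 2 3 (by decide)).trans (b2 ▸ b0), b5 ▸ b0, b6 ▸ b0, b7 ▸ b0,
      b8 ▸ b0, b9 ▸ b0, (br 9 10 (by decide)).trans (b9 ▸ b0), by simp⟩, rfl⟩
  obtain ⟨y, h1, h2⟩ := this hx
  rw [show y = ⟨x, hx⟩ from Subtype.ext h2, SetLike.mem_coe, MonoidHom.mem_ker, v1] at h1
  exact absurd h1 (by decide)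

end Sit

/-- A central extension of `gen sm L3` by an involution, generated by lifts that satisfy the
relations of `Y333` with `f₂ = f₃ = 1`, is trivial. -/
theorem inj3 (ρ : G →* GG) {t : G} {b : ℕ → G} (h : C3 b)
    (f2 : ev b [0, 1, 2, 5, 6, 7, 8] ^ 9 = 1) (f3 : ev b [0, 1, 2, 5, 8, 9, 10] ^ 9 = 1)
    (hρ : ∀ c ∈ L3, ρ (b c) = sm c) (ht : ∀ c ∈ L3, b c * t = t * b c) (h2 : t * t = 1)
    (hk : ∀ g ∈ gen b L3, ρ g = 1 → g = 1 ∨ g = t) : Inj ρ (gen b L3) := by
  obtain ⟨S, a⟩ := sit ρ h f2 f3 hρ ht h2 hk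
  exact gen_congr a ▸ S.L_inj (fun x hx y hy => by rw [a x hx, a y hy]; exact h.cox x hx y hy)
    (by rwa [ev_congr (e' := b) fun c hc => a c (by revert c; decide)])

end H29.YB.CV
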