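import Mathlib
import Cfsg.Agent.H29.CV.E3
import Cfsg.Agent.H9.CVS
import Cfsg.Agent.H5.CVL

/-!
# The nonsplit double covers of the quotient of `gen sm L3` by `f₁`
-/

set_option autoImplicit false
set_option maxRecDepth 100000
set_option linter.all false

namespace H29.YB.CV
open H19 H29.BE H29.BP H29.BP.Dat H29.BM H29.CV

def Rel (w : List ℕ) : Prop := ev sm w = 1 ∨ ev sm w = sm 11

theorem π0_ev {w : List ℕ} (h : ∀ c ∈ w, c ∈ L3) : π0 (ev PY.e w) = ev sm w := by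
  rw [map_ev]; exact ev_congr fun c hc => π0_e (by have := h c hc; clear hc; revert c; decide)
theorem π0_inj : Function.Injective π0 := fun x y h => ι_inj (π_inj (by rw [π_ι, π_ι, h]))
theorem rel_iff {w : List ℕ} (h : ∀ c ∈ w, c ∈ L3) :
    (ev PY.e w = 1 ∨ ev PY.e w = ev PY.e [6, 5, 0, 1, 2, 3, 8] ^ 9) ↔ Rel w := by
  rw [← π0_inj.eq_iff, ← π0_inj.eq_iff (a := ev PY.e w) (b := _ ^ 9), map_one, π0_ev h, ← ev_powW,
    π0_ev (by decide +kernel), rel_f1, Rel]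

theorem c3_sm : C3 sm := ⟨sm_sq, fun a ha b hb => by
  have := sm_cox (powW (ord a b) [a, b]) (memLL_true (by revert b; revert a; decide +kernel))
  rwa [ev_powW, ev_cons, ev_cons, ev_nil, mul_one] at this, ev_powW sm _ _ ▸ rel_sp⟩

structure Good {E : Type*} [Group E] (n : ℕ → E) : Prop where
  sq : ∀ c, n c * n c = 1
  top : gen n L3 = ⊤
  rel : ∀ w : List ℕ, (∀ c ∈ w, c ∈ L3) → (ev n w = 1 ↔ Rel w)

section
variable {E : Type*} [Group E] {n : ℕ → E}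

theorem Good.pow (h : Good n) {w : List ℕ} {k : ℕ} (a : ev sm w ^ k = 1 ∨ ev sm w ^ k = sm 11)
    (hw : ∀ c ∈ powW k w, c ∈ L3) : ev n w ^ k = 1 := by
  rw [← ev_powW] at a ⊢; exact (h.rel _ hw).2 a

theorem Good.c3 (h : Good n) : C3 n := ⟨h.sq, fun a ha b hb => by
  simpa using h.pow (w := [a, b]) (Or.inl (by simpa using c3_sm.cox a ha b hb))
    (by revert b; revert a; decide +kernel), h.pow (Or.inl c3_sm.sp) (by decide +kernel)⟩

theorem Good.map (h : Good n) {r : ℕ → ℕ} (h1 : ∀ c ∈ L3, r c ∈ L3 ∧ r (r c) = c)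
    (h2 : ∀ w : List ℕ, (∀ c ∈ w, c ∈ L3) → Rel w → Rel (w.map r)) : Good fun c => n (r c) := by
  have m : ∀ w : List ℕ, (∀ c ∈ w, c ∈ L3) → ∀ c ∈ w.map r, c ∈ L3 := fun w hw c hc => by
    obtain ⟨x, hx, rfl⟩ := List.mem_map.1 hc; exact (h1 x (hw x hx)).1
  refine ⟨fun _ => h.sq _, top_unique (h.top ▸ gen_le.2 fun c hc => ?_), fun w hw => ?_⟩
  · have := mem_gen (e := fun c => n (r c)) (h1 c hc).1
    rwa [(h1 c hc).2] at this
  · rw [ev_map, h.rel _ (m w hw)]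
    refine ⟨fun a => ?_, h2 w hw⟩
    have := h2 _ (m w hw) a
    rwa [List.map_map, List.map_congr_left (f := r ∘ r) (g := id) fun c hc => (h1 c (hw c hc)).2, List.map_id] at this

theorem Good.ta (h : Good n) : Good fun c => n (ta c) := h.map (by decide +kernel) fun w hw a => by
  rw [Rel, om_ev (allL_true.2 fun c hc =>
    (show ∀ c ∈ L3, tb 32767 c = true by decide +kernel) c (hw c hc))]
  exact a.imp (fun a => by rw [a]; simp) fun a => by rw [a, om_sm (by omega)]; rfl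

theorem Good.sw (h : Good n) : Good fun c => n (p12 c) := h.map (by decide +kernel) fun w hw a =>
  (rel_iff fun c hc => by
    obtain ⟨x, hx, rfl⟩ := List.mem_map.1 hc; exact (p12_L3 x (hw x hx)).1).1
    (sym12 w hw ((rel_iff hw).2 a))

end

section
variable {M : Type} [Group M] {m : ℕ → M} {s : M}

theorem c3_sw (h : C3 m) : C3 fun c => m (p12 c) :=
  h.map (by decide +kernel) (h.pow' [9, 8, 9, 6, 2] h.sp (by decide +kernel))

theorem ev_tw (hs : ∀ x, x * s = s * x) : ∀ w : List ℕ,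
    ev (fun c => m c * s) w = ev m w * s ^ w.length
  | [] => by simp
  | c :: w => by
    rw [ev_cons, ev_cons, ev_tw hs w, List.length_cons, pow_succ', mul_assoc, mul_assoc,
      ← mul_assoc s, ← hs, mul_assoc]

theorem pow_tw (hs : ∀ x, x * s = s * x) (h2 : s * s = 1) (w : List ℕ) (k : ℕ) :
    ev (fun c => m c * s) w ^ k = ev m w ^ k * s ^ (w.length * k % 2) := by
  have c : Commute (ev m w) s := hs _
  rw [ev_tw hs, (c.pow_right _).mul_pow, ← pow_mul]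
  nth_rewrite 1 [← Nat.div_add_mod (w.length * k) 2]
  rw [pow_add, pow_mul s 2, pow_two, h2, one_pow, one_mul]

theorem c3_tw (h : C3 m) (hs : ∀ x, x * s = s * x) (h2 : s * s = 1) : C3 fun c => m c * s :=
  ⟨fun c => by rw [mul_assoc, ← mul_assoc s, ← hs, mul_assoc, h2, mul_one, h.sq], fun a ha b hb => by
    simpa [h.cox a ha b hb] using pow_tw (m := m) hs h2 [a, b] (ord a b),
    by rw [pow_tw hs h2, h.sp]; simp⟩

theorem tws (h : C3 m) (hs : ∀ x, x * s = s * x) (h2 : s * s = 1) {u v : List ℕ}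
    (k : ∀ y : ℕ → M, C3 y → ev y u ^ 9 = 1 → ev y v ^ 9 = 1) (a : ev m u ^ 9 = s)
    (hu : u.length = 7 := by rfl) (hv : v.length = 7 := by rfl) : ev m v ^ 9 = s := by
  have := k _ (c3_tw h hs h2) (by rw [pow_tw hs h2, hu, a]; simpa using h2)
  rw [pow_tw hs h2, hv] at this
  simpa [mul_eq_one_iff_eq_inv, inv_eq_of_mul_eq_one_right h2] using this

variable {E : Type*} [Group E] {p : M →* E} {t : M} (ht : ∀ x, x * t = t * x) (h2 : t * t = 1)
  (h1 : t ≠ 1) (hk : ∀ x, p x = 1 ↔ x = 1 ∨ x = t)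
  (hn : ∀ L : Subgroup M, (∀ g, g ∈ L ∨ g * t ∈ L) → t ∈ L)
include ht h2 h1 hk hn

theorem fin0 {n : ℕ → E} (g : Good n) (h : C3 m) (hp : ∀ c ∈ L3, p (m c) = n c)
    (f2 : ev m [0, 1, 2, 5, 6, 7, 8] ^ 9 = 1) (f3 : ev m [0, 1, 2, 5, 8, 9, 10] ^ 9 = 1) :
    gen m L3 = ⊤ ∧ Tr sm m L3 ∧ Tr m sm L3 ∧ ev m [6, 5, 0, 1, 2, 3, 8] ^ 9 = t := by
  have pw : ∀ {w : List ℕ}, (∀ c ∈ w, c ∈ L3) → p (ev m w) = ev n w := fun h => by
    rw [map_ev]; exact ev_congr fun c hc => hp c (h c hc)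
  have e : ∀ w, ev (fun c => (m c, sm c)) w = (ev m w, ev sm w) := fun w =>
    Prod.ext (map_ev (MonoidHom.fst M GG) _ w) (map_ev (MonoidHom.snd M GG) _ w)
  have c : C3 fun c => (m c, sm c) := ⟨fun c => Prod.ext (h.sq c) (sm_sq c),
    fun a ha b hb => Prod.ext (h.cox a ha b hb) (c3_sm.cox a ha b hb),
    e _ ▸ Prod.ext h.sp c3_sm.sp⟩
  have i := inj3 (MonoidHom.snd M GG) (t := (t, 1)) c (e _ ▸ Prod.ext f2 ((ev_powW sm _ 9).symm.trans rel_f2))
    (e _ ▸ Prod.ext f3 ((ev_powW sm _ 9).symm.trans sm_yr.f3)) (fun _ _ => rfl)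
    (fun c _ => Prod.ext (ht _) (by simp)) (Prod.ext h2 (one_mul 1)) fun x hx a => by
      obtain ⟨w, hw, rfl⟩ := exists_word (iv_of_sq c.sq) (fun _ h => h) hx
      rw [e] at a ⊢
      exact ((hk _).1 ((pw hw).trans ((g.rel w hw).2 (Or.inl a)))).imp (Prod.ext · a) (Prod.ext · a)
  have t1 : Tr sm m L3 := fun w hw a => by
    have := i _ (ev_mem_gen hw) (by rw [e]; exact a)
    rw [e] at this; exact congrArg Prod.fst this
  have d : ∀ x, x ∈ gen m L3 ∨ x * t ∈ gen m L3 := fun x => by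
    obtain ⟨w, hw, a⟩ := exists_word (iv := ivOf []) (fun c => eq_inv_of_mul_eq_one_left (g.sq c))
      (fun _ h => h) (g.top ▸ Subgroup.mem_top (p x) : p x ∈ gen n L3)
    rcases (hk ((ev m w)⁻¹ * x)).1 (by rw [map_mul, map_inv, pw hw, a, inv_mul_cancel]) with b | b
    · exact Or.inl (inv_mul_eq_one.1 b ▸ ev_mem_gen hw)
    · exact Or.inr (by rw [inv_mul_eq_iff_eq_mul.1 b, mul_assoc, h2, mul_one]; exact ev_mem_gen hw)
  have tm := hn _ d
  have k : ∀ w : List ℕ, (∀ c ∈ w, c ∈ L3) → p (ev m w) = 1 →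
      ev sm w = 1 ∨ ev m w = ev m [6, 5, 0, 1, 2, 3, 8] ^ 9 := fun w hw a =>
    ((g.rel w hw).1 ((pw hw).symm.trans a)).imp_right fun b => by
      rw [← ev_powW]
      exact t1.eq sm_iv (iv_of_sq h.sq) (fun _ h => h) hw (by decide +kernel) (b.trans rel_f1.symm)
  have f : ev m [6, 5, 0, 1, 2, 3, 8] ^ 9 = t := by
    obtain ⟨w, hw, a⟩ := exists_word (iv_of_sq h.sq) (fun _ h => h) tm
    rcases k w hw ((hk _).2 (Or.inr a)) with b | b
    exacts [absurd (a.symm.trans (t1 w hw b)) h1, b.symm.trans a]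
  refine ⟨top_unique fun x _ => (d x).elim id (Subgroup.mul_mem_cancel_right _ tm).1, t1,
    fun w hw a => (k w hw (by rw [a, map_one])).resolve_right fun b => h1 (f.symm.trans (b.symm.trans a)), f⟩

theorem fin1 {n : ℕ → E} (g : Good n) (h : C3 m) (hp : ∀ c ∈ L3, p (m c) = n c) (hs : s = 1 ∨ s = t)
    (f2 : ev m [0, 1, 2, 5, 6, 7, 8] ^ 9 = s) (f3 : ev m [0, 1, 2, 5, 8, 9, 10] ^ 9 = s) :
    ∃ m : ℕ → M, gen m L3 = ⊤ ∧ Tr sm m L3 ∧ Tr m sm L3 ∧ ev m [6, 5, 0, 1, 2, 3, 8] ^ 9 = t := by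
  rcases hs with rfl | rfl
  · exact ⟨m, fin0 ht h2 h1 hk hn g h hp f2 f3⟩
  · exact ⟨_, fin0 ht h2 h1 hk hn g (c3_tw h ht h2) (fun c hc => by
      rw [map_mul, hp c hc, (hk s).2 (Or.inr rfl), mul_one])
      (by rw [pow_tw ht h2, f2]; simpa using h2) (by rw [pow_tw ht h2, f3]; simpa using h2)⟩

theorem fin2 {n : ℕ → E} (g : Good n) (h : C3 m) (hp : ∀ c ∈ L3, p (m c) = n c) (hs : s = 1 ∨ s = t)
    (f1 : ev m [6, 5, 0, 1, 2, 3, 8] ^ 9 = s) (f3 : ev m [0, 1, 2, 5, 8, 9, 10] ^ 9 = s) :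
    ∃ m : ℕ → M, gen m L3 = ⊤ ∧ Tr sm m L3 ∧ Tr m sm L3 ∧ ev m [6, 5, 0, 1, 2, 3, 8] ^ 9 = t := by
  have a : (∀ x, x * s = s * x) ∧ s * s = 1 := by
    rcases hs with rfl | rfl
    exacts [by simp, ⟨ht, h2⟩]
  refine fin1 ht h2 h1 hk hn g.sw (c3_sw h) (fun c hc => hp _ (p12_L3 c hc).1) hs ?_ ?_ <;> rw [ev_map]
  · exact tws (v := [0, 5, 6, 1, 2, 3, 8]) h a.1 a.2
      (fun y hy b => hy.pow [6, 5, 6] b (by decide +kernel)) f1
  · refine tws (v := [0, 5, 6, 1, 8, 9, 10]) h a.1 a.2 (fun y hy b => ?_) f3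
    have := hy.tau.phi (by rw [ev_map]; exact hy.pow [] b (by decide +kernel))
    rw [ev_map] at this
    exact hy.pow' [1, 6, 5, 6] this (by decide +kernel)

theorem fin3 (hs : Function.Surjective p) {n : ℕ → E} (g : Good n) :
    ∃ m : ℕ → M, gen m L3 = ⊤ ∧ Tr sm m L3 ∧ Tr m sm L3 ∧ ev m [6, 5, 0, 1, 2, 3, 8] ^ 9 = t := by
  have r2 : ev sm [0, 1, 2, 5, 6, 7, 8] ^ 9 = 1 := ev_powW sm _ _ ▸ rel_f2
  have r3 : ev sm [0, 1, 2, 5, 8, 9, 10] ^ 9 = 1 := ev_powW sm _ _ ▸ sm_yr.f3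
  have n2 := g.pow (Or.inl r2) (by decide +kernel)
  have n3 := g.pow (Or.inl r3) (by decide +kernel)
  have n1 := g.pow (w := [6, 5, 0, 1, 2, 3, 8]) (k := 9) (Or.inr (ev_powW sm _ _ ▸ rel_f1))
    (by decide +kernel)
  obtain ⟨m, h, hp⟩ := lift3 p ht h2 (fun x => (hk x).1) hs g.c3
    (g.pow (Or.inl (c3_sm.phi r2)) (by decide +kernel)) n3 n2
  have k : ∀ {w : List ℕ}, ev n w ^ 9 = 1 → (∀ c ∈ w, c ∈ L3) → ev m w ^ 9 = 1 ∨ ev m w ^ 9 = t :=
    fun a hw => (hk _).1 (by rw [map_pow, map_ev, ev_congr fun c hc => hp c (hw c hc), a])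
  have x : ∀ {s}, s = 1 ∨ s = t → ev m [6, 5, 0, 1, 2, 3, 8] ^ 9 = s →
      ev m [0, 1, 2, 5, 6, 7, 8] ^ 9 = s → ∃ m : ℕ → M, gen m L3 = ⊤ ∧ Tr sm m L3 ∧ Tr m sm L3 ∧
      ev m [6, 5, 0, 1, 2, 3, 8] ^ 9 = t := fun {s} hs f1 f2 => by
    have a : (∀ x, x * s = s * x) ∧ s * s = 1 := by
      rcases hs with rfl | rfl
      exacts [by simp, ⟨ht, h2⟩]
    refine fin2 ht h2 h1 hk hn g.ta h.tau (fun c hc => hp _ (by revert c; decide +kernel)) hs ?_ ?_ <;>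
      rw [ev_map]
    · refine tws (v := [9, 8, 0, 1, 2, 3, 5]) h a.1 a.2 (fun y hy b => ?_) f1
      have := (c3_sw hy).phi (by rw [ev_map]; exact hy.pow [6, 5, 6] b (by decide +kernel))
      rw [ev_map] at this
      exact hy.pow' [5] this (by decide +kernel)
    · exact tws (v := [0, 1, 2, 8, 5, 6, 7]) h a.1 a.2
        (fun y hy b => hy.pow [] b (by decide +kernel)) f2
  rcases k n1 (by decide) with a | a <;> rcases k n2 (by decide) with b | b <;>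
    rcases k n3 (by decide) with c | c
  exacts [x (.inl rfl) a b, x (.inl rfl) a b, fin2 ht h2 h1 hk hn g h hp (.inl rfl) a c,
    fin1 ht h2 h1 hk hn g h hp (.inr rfl) b c, fin1 ht h2 h1 hk hn g h hp (.inl rfl) b c,
    fin2 ht h2 h1 hk hn g h hp (.inr rfl) a c, x (.inr rfl) a b, x (.inr rfl) a b]

end

end H29.YB.CV

namespace H29.CV
open H29.YB H29.YB.CV

/-- A nonsplit double cover of `gen PY.e L3 / ⟨f₁⟩` is `gen PY.e L3`. -/
theorem cover {M E : Type*} [Group M] [Group E] [Finite M] (p : M →* E) {t : M}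
    (ht : ∀ x, x * t = t * x) (h2 : t * t = 1) (h1 : t ≠ 1) (hk : ∀ x, p x = 1 ↔ x = 1 ∨ x = t)
    (hs : Function.Surjective p) (hn : ∀ L : Subgroup M, (∀ g, g ∈ L ∨ g * t ∈ L) → t ∈ L)
    (n : ℕ → E) (hg : gen n L3 = ⊤) (hw : ∀ w : List ℕ, (∀ c ∈ w, c ∈ L3) →
      (ev n w = 1 ↔ ev PY.e w = 1 ∨ ev PY.e w = ev PY.e [6, 5, 0, 1, 2, 3, 8] ^ 9)) :
    ∃ m : ℕ → M, gen m L3 = ⊤ ∧ Tr PY.e m L3 ∧ Tr m PY.e L3 ∧
      ev m [6, 5, 0, 1, 2, 3, 8] ^ 9 = t := by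
  classical
  let φ : Shrink.{0} M ≃* M := Shrink.mulEquiv
  have a : ∀ c ∈ L3, (if c ∈ L3 then n c else 1) = n c := fun c hc => if_pos hc
  have g : Good fun c => if c ∈ L3 then n c else 1 := ⟨fun c => by
      split_ifs with h
      · simpa using (hw [c, c] (by simpa using h)).2 (Or.inl (by simpa using PY_yr.sq c))
      · exact one_mul 1,
    (gen_congr a).trans hg, fun w h => by
      rw [ev_congr fun c hc => a c (h c hc), hw w h, rel_iff h]⟩
  obtain ⟨m, b1, b2, b3, b4⟩ := fin3 (p := p.comp φ.toMonoidHom) (t := φ.symm t)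
    (fun x => φ.injective (by simp [ht])) (φ.injective (by simp [h2])) (by simpa using h1)
    (fun x => by
      rw [← φ.injective.eq_iff, ← φ.injective.eq_iff (a := x) (b := φ.symm t)]; simpa using hk (φ x))
    (fun L h => by
      obtain ⟨x, hx, e⟩ := hn (L.map φ.toMonoidHom) fun y => (h (φ.symm y)).imp
        (fun b => ⟨_, b, by simp⟩) fun b => ⟨_, b, by simp⟩
      rwa [← show φ x = t from e, φ.symm_apply_apply])
    (hs.comp φ.surjective) g
  have e : ∀ w, ev (fun c => φ (m c)) w = φ (ev m w) := fun w => (map_ev φ.toMonoidHom m w).symm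
  refine ⟨fun c => φ (m c), ?_, fun w h c => ?_, fun w h c => π0_inj ?_, by
    rw [e, ← map_pow, b4, φ.apply_symm_apply]⟩
  · rw [show (fun c => φ (m c)) = fun c => φ.toMonoidHom (m c) from rfl, ← map_gen, b1,
      Subgroup.map_top_of_surjective _ φ.surjective]
  · rw [e, b2 w h (by rw [← π0_ev h, c, map_one]), map_one]
  · rw [π0_ev h, map_one]
    exact b3 w h (φ.injective (by rw [← e, c, map_one]))

end H29.CV
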